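import Groth.Agent.DRExt.Basic
import Mathlib.LinearAlgebra.CliffordAlgebra.Contraction
import Mathlib.RingTheory.Kaehler.Polynomial
import Mathlib.Algebra.MvPolynomial.Derivation
import Mathlib.Algebra.Polynomial.AlgebraMap

/-!
# The algebraic Poincaré lemma

Cartan homotopy for the Euler vector field.
-/

set_option autoImplicit false
set_option linter.style.haveILetI false

universe u

open MvPolynomial

namespace Groth.Agent.DRExt

variable (k : Type u) [Field k] (n : ℕ)

local notation "P" => MvPolynomial (Fin n) k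

/-- The Euler derivation. -/
noncomputable def euler : Derivation k P P := MvPolynomial.mkDerivation k fun i => X i

theorem euler_X (i : Fin n) : euler k n (X i) = X i := MvPolynomial.mkDerivation_X _ _ _

theorem euler_monomial (s : Fin n →₀ ℕ) (c : k) :
    euler k n (monomial s c) = (s.degree : k) • monomial s c := by
  induction s using Finsupp.induction generalizing c with
  | zero => simp [Derivation.map_algebraMap, ← C_apply, MvPolynomial.derivation_C]
  | single_add i m f hi hm ih =>
    have hX : euler k n (X i ^ m) = (m : k) • (X i ^ m : P) := by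
      rw [Derivation.leibniz_pow, euler_X, smul_eq_mul, ← pow_succ, Nat.sub_add_cancel (Nat.pos_of_ne_zero hm),
        Nat.cast_smul_eq_nsmul]
    rw [monomial_single_add, Derivation.leibniz, hX, ih, map_add, Finsupp.degree_single, Nat.cast_add, add_smul,
      smul_eq_mul, smul_eq_mul, mul_smul_comm, mul_smul_comm, mul_comm (monomial f c), add_comm]

theorem coeff_euler (a : P) (s : Fin n →₀ ℕ) : coeff s (euler k n a) = (s.degree : k) * coeff s a := by
  induction a using MvPolynomial.induction_on' with
  | monomial t c =>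
    rw [euler_monomial, coeff_smul, coeff_monomial, smul_eq_mul]
    split_ifs with h
    · rw [h]
    · rw [mul_zero, mul_zero]
  | add p q hp hq => rw [map_add, coeff_add, coeff_add, hp, hq, mul_add]

/-- Pairing with the Euler field. -/
noncomputable def eulerForm : (Ω[P⁄k]) →ₗ[P] P := (euler k n).liftKaehlerDifferential

theorem eulerForm_D (a : P) : eulerForm k n (KaehlerDifferential.D k P a) = euler k n a :=
  (euler k n).liftKaehlerDifferential_comp_D a

/-- Contraction with the Euler field. -/
noncomputable def contr : E k P →ₗ[P] E k P := CliffordAlgebra.contractLeft (eulerForm k n)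

theorem contr_ι_mul (w : Ω[P⁄k]) (x : E k P) :
    contr k n (ExteriorAlgebra.ι P w * x) = eulerForm k n w • x - ExteriorAlgebra.ι P w * contr k n x :=
  CliffordAlgebra.contractLeft_ι_mul _ _ _

theorem contr_algebraMap (a : P) : contr k n (algebraMap P _ a) = 0 :=
  CliffordAlgebra.contractLeft_algebraMap _ _ a

/-- The Lie derivative along the Euler field. -/
noncomputable def lie : Module.End k (E k P) :=
  d k P ∘ₗ (contr k n).restrictScalars k + (contr k n).restrictScalars k ∘ₗ d k P

theorem lie_apply (x : E k P) : lie k n x = d k P (contr k n x) + contr k n (d k P x) := rfl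

theorem lie_d (x : E k P) : lie k n (d k P x) = d k P (lie k n x) := by
  rw [lie_apply, lie_apply, (d_spec _).1, map_zero, add_zero, map_add, (d_spec _).1, zero_add]

theorem lie_one : lie k n 1 = 0 := by
  rw [lie_apply, ← map_one (algebraMap P (E k P)), contr_algebraMap, map_zero, zero_add, d_algebraMap,
    Derivation.map_one_eq_zero, map_zero, map_zero]

theorem lie_smul (a : P) (x : E k P) : lie k n (a • x) = a • lie k n x + euler k n a • x := by
  rw [lie_apply, lie_apply, map_smul, d_smul, d_smul, map_add, map_smul, contr_ι_mul, eulerForm_D, smul_add]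
  abel

theorem lie_ι_D_X_mul (i : Fin n) (x : E k P) :
    lie k n (ExteriorAlgebra.ι P (KaehlerDifferential.D k P (X i)) * x) =
      ExteriorAlgebra.ι P (KaehlerDifferential.D k P (X i)) * (x + lie k n x) := by
  rw [lie_apply, lie_apply, contr_ι_mul, eulerForm_D, euler_X, map_sub, d_smul, d_mul, d_mul, d_ι_D, zero_mul,
    zero_add, zero_mul, zero_add, sgn_ι, neg_mul, neg_mul, map_neg, contr_ι_mul, eulerForm_D, euler_X, mul_add,
    mul_add]
  abel

/-- Spanned by eigenvectors of weight at least `p`. -/
noncomputable def wt (p : ℕ) : Submodule k (E k P) :=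
  Submodule.span k {y | ∃ m : ℕ, p ≤ m ∧ lie k n y = (m : k) • y}

theorem smul_mem_wt {p : ℕ} (a : P) {x : E k P} (hx : x ∈ wt k n p) : a • x ∈ wt k n p := by
  induction a using MvPolynomial.induction_on' with
  | add a b ha hb => rw [add_smul]; exact add_mem ha hb
  | monomial s c =>
    induction hx using Submodule.span_induction with
    | zero => rw [smul_zero]; exact zero_mem _
    | add y z _ _ hy hz => rw [smul_add]; exact add_mem hy hz
    | smul r y _ hy => rw [smul_comm]; exact Submodule.smul_mem _ r hy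
    | mem y hy =>
      obtain ⟨m, hm, hy⟩ := hy
      refine Submodule.subset_span ⟨m + s.degree, hm.trans (Nat.le_add_right _ _), ?_⟩
      rw [lie_smul, hy, euler_monomial, smul_comm, smul_assoc, Nat.cast_add, add_smul]

theorem ι_mul_mem_wt {p : ℕ} (w : Ω[P⁄k]) {x : E k P} (hx : x ∈ wt k n p) :
    ExteriorAlgebra.ι P w * x ∈ wt k n (p + 1) := by
  rw [← (KaehlerDifferential.mvPolynomialBasis k (Fin n)).sum_repr w, map_sum, Finset.sum_mul]
  refine Submodule.sum_mem _ fun i _ => ?_
  rw [map_smul, smul_mul_assoc, KaehlerDifferential.mvPolynomialBasis_apply]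
  refine smul_mem_wt k n _ ?_
  induction hx using Submodule.span_induction with
  | zero => rw [mul_zero]; exact zero_mem _
  | add y z _ _ hy hz => rw [mul_add]; exact add_mem hy hz
  | smul r y _ hy => rw [mul_smul_comm]; exact Submodule.smul_mem _ r hy
  | mem y hy =>
    obtain ⟨m, hm, hy⟩ := hy
    refine Submodule.subset_span ⟨m + 1, Nat.add_le_add_right hm 1, ?_⟩
    rw [lie_ι_D_X_mul, hy, mul_add, mul_smul_comm, Nat.cast_add, Nat.cast_one, add_smul, one_smul, add_comm]

theorem mem_wt {p : ℕ} {x : E k P} (hx : x ∈ ExteriorAlgebra.exteriorPower P p (Ω[P⁄k])) : x ∈ wt k n p := by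
  induction hx using Submodule.pow_induction_on_left' with
  | algebraMap a =>
    rw [Algebra.algebraMap_eq_smul_one]
    exact smul_mem_wt k n a (Submodule.subset_span ⟨0, le_rfl, by rw [lie_one, Nat.cast_zero, zero_smul]⟩)
  | add x y i _ _ hx hy => exact add_mem hx hy
  | mem_mul m hm i x _ hx =>
    obtain ⟨w, rfl⟩ := hm
    exact ι_mul_mem_wt k n w hx

/-- A polynomial in the Lie derivative with nonzero constant term kills every form of positive degree. -/
theorem exists_annihilator [CharZero k] {p : ℕ} {x : E k P} (hx : x ∈ wt k n (p + 1)) :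
    ∃ q : Polynomial k, q.eval 0 ≠ 0 ∧ Polynomial.aeval (lie k n) q x = 0 := by
  induction hx using Submodule.span_induction with
  | mem y hy =>
    obtain ⟨m, hm, hy⟩ := hy
    refine ⟨Polynomial.X - Polynomial.C (m : k), ?_, ?_⟩
    · simp only [Polynomial.eval_sub, Polynomial.eval_X, Polynomial.eval_C, zero_sub, ne_eq, neg_eq_zero,
        Nat.cast_eq_zero]
      omega
    · rw [map_sub, Polynomial.aeval_X, Polynomial.aeval_C, LinearMap.sub_apply, Module.algebraMap_end_apply, hy,
        sub_self]
  | zero => exact ⟨1, by simp, by simp⟩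
  | add y z _ _ hy hz =>
    obtain ⟨q₁, e₁, h₁⟩ := hy
    obtain ⟨q₂, e₂, h₂⟩ := hz
    refine ⟨q₁ * q₂, by rw [Polynomial.eval_mul]; exact mul_ne_zero e₁ e₂, ?_⟩
    rw [map_add]
    conv_lhs => arg 1; rw [mul_comm, map_mul, Module.End.mul_apply, h₁, map_zero]
    rw [zero_add, map_mul, Module.End.mul_apply, h₂, map_zero]
  | smul r y _ hy =>
    obtain ⟨q, e, h⟩ := hy
    exact ⟨q, e, by rw [map_smul, h, smul_zero]⟩

theorem contr_mem {p : ℕ} {x : E k P} (hx : x ∈ ExteriorAlgebra.exteriorPower P (p + 1) (Ω[P⁄k])) :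
    contr k n x ∈ ExteriorAlgebra.exteriorPower P p (Ω[P⁄k]) := by
  have key : ∀ (j : ℕ) (y : E k P), y ∈ ExteriorAlgebra.exteriorPower P j (Ω[P⁄k]) →
      (j = 0 → contr k n y = 0) ∧ contr k n y ∈ ExteriorAlgebra.exteriorPower P (j - 1) (Ω[P⁄k]) := by
    intro j y hy
    induction hy using Submodule.pow_induction_on_left' with
    | algebraMap a => rw [contr_algebraMap]; exact ⟨fun _ => rfl, zero_mem _⟩
    | add y z i _ _ hy hz =>
      rw [map_add]
      exact ⟨fun h => by rw [hy.1 h, hz.1 h, add_zero], add_mem hy.2 hz.2⟩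
    | mem_mul m hm i y hyi hy =>
      obtain ⟨w, rfl⟩ := hm
      refine ⟨fun h => absurd h (Nat.succ_ne_zero i), ?_⟩
      rw [contr_ι_mul]
      refine sub_mem (Submodule.smul_mem _ _ hyi) ?_
      cases i with
      | zero => rw [hy.1 rfl, mul_zero]; exact zero_mem _
      | succ i =>
        show _ ∈ LinearMap.range (ExteriorAlgebra.ι P) ^ (i + 1)
        rw [pow_succ']
        exact Submodule.mul_mem_mul ⟨w, rfl⟩ hy.2
  exact (key _ x hx).2

theorem lie_mem {p : ℕ} {x : E k P} (hx : x ∈ ExteriorAlgebra.exteriorPower P p (Ω[P⁄k])) :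
    lie k n x ∈ ExteriorAlgebra.exteriorPower P p (Ω[P⁄k]) := by
  rw [lie_apply]
  refine add_mem ?_ (contr_mem k n (d_mem hx))
  cases p with
  | zero =>
    obtain ⟨a, rfl⟩ : ∃ a, algebraMap P (E k P) a = x := Submodule.mem_one.1 (by
      rwa [← pow_zero (LinearMap.range (ExteriorAlgebra.ι P (M := Ω[P⁄k])))])
    rw [contr_algebraMap, map_zero]
    exact zero_mem _
  | succ p => exact d_mem (contr_mem k n hx)

theorem aeval_mem (q : Polynomial k) {p : ℕ} {x : E k P}
    (hx : x ∈ ExteriorAlgebra.exteriorPower P p (Ω[P⁄k])) :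
    Polynomial.aeval (lie k n) q x ∈ ExteriorAlgebra.exteriorPower P p (Ω[P⁄k]) := by
  induction q using Polynomial.induction_on generalizing x with
  | C r =>
    rw [Polynomial.aeval_C, Module.algebraMap_end_apply, ← algebraMap_smul P r x]
    exact Submodule.smul_mem _ _ hx
  | add a b ha hb => rw [map_add, LinearMap.add_apply]; exact add_mem (ha hx) (hb hx)
  | monomial j r ih =>
    rw [pow_succ, ← mul_assoc, map_mul, Polynomial.aeval_X, Module.End.mul_apply]
    exact ih (lie_mem k n hx)

theorem aeval_d (q : Polynomial k) (x : E k P) :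
    Polynomial.aeval (lie k n) q (d k P x) = d k P (Polynomial.aeval (lie k n) q x) := by
  induction q using Polynomial.induction_on generalizing x with
  | C r => rw [Polynomial.aeval_C, Module.algebraMap_end_apply, Module.algebraMap_end_apply, map_smul]
  | add a b ha hb => rw [map_add, LinearMap.add_apply, LinearMap.add_apply, ha, hb, map_add]
  | monomial j r ih =>
    rw [pow_succ, ← mul_assoc, map_mul, Polynomial.aeval_X, Module.End.mul_apply, Module.End.mul_apply, lie_d, ih]

theorem exact_succ [CharZero k] {p : ℕ} {ω : E k P}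
    (hω : ω ∈ ExteriorAlgebra.exteriorPower P (p + 1) (Ω[P⁄k])) (hd : d k P ω = 0) :
    ∃ θ ∈ ExteriorAlgebra.exteriorPower P p (Ω[P⁄k]), d k P θ = ω := by
  obtain ⟨q, hq, hz⟩ := exists_annihilator k n (mem_wt k n hω)
  have hL : lie k n ω = d k P (contr k n ω) := by rw [lie_apply, hd, map_zero, add_zero]
  refine ⟨(-(q.eval 0)⁻¹) • Polynomial.aeval (lie k n) q.divX (contr k n ω), ?_, ?_⟩
  · rw [← algebraMap_smul P (-(q.eval 0)⁻¹)]
    exact Submodule.smul_mem _ _ (aeval_mem k n _ (contr_mem k n hω))
  · rw [map_smul, ← aeval_d, ← hL]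
    rw [← Polynomial.divX_mul_X_add q, map_add, map_mul, Polynomial.aeval_X, Polynomial.aeval_C, LinearMap.add_apply,
      Module.End.mul_apply, Module.algebraMap_end_apply, Polynomial.coeff_zero_eq_eval_zero, add_eq_zero_iff_eq_neg]
      at hz
    rw [hz, smul_neg, neg_smul, neg_neg, smul_smul, inv_mul_cancel₀ hq, one_smul]

theorem closed_zero [CharZero k] {a : P} (h : d k P (algebraMap P _ a) = 0) : ∃ c : k, a = C c := by
  rw [d_algebraMap] at h
  have hD : KaehlerDifferential.D k P a = 0 := (ExteriorAlgebra.ι_eq_zero_iff _).1 h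
  have hE : euler k n a = 0 := by rw [← eulerForm_D, hD, map_zero]
  refine ⟨coeff 0 a, MvPolynomial.ext _ _ fun s => ?_⟩
  rw [coeff_C]
  split_ifs with hs
  · rw [← hs]
  · have := coeff_euler k n a s
    rw [hE, coeff_zero, eq_comm, mul_eq_zero] at this
    refine this.resolve_left ?_
    rw [Nat.cast_eq_zero, Finsupp.degree_eq_zero_iff]
    exact Ne.symm hs

end Groth.Agent.DRExt
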